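import Cfsg.Agent.H661.SC.Base
import Cfsg.Agent.H464.PermIrr

/-!
# `IMC 2 G` from a permutation representation of odd degree and even rank (helper174)

If `G` acts transitively on `X`, `|X|` odd, with an even number of orbits on `X × X`, then some constituent of the
permutation character has even degree (compare `∑ m χ(1)` and `∑ m ^ 2` modulo 2).
-/

set_option autoImplicit false

open Cfsg
open scoped ComplexConjugate

namespace Cfsg.Agent.H174.SC

open Cfsg.Agent.Characters.Core Cfsg.Agent.Blocks Cfsg.Agent.H625.SylConst Cfsg.Agent.H661.SC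
open Cfsg.Agent.H464.PermIrr

universe u

variable {G : Type u} [Group G] [Finite G]

/-- A constituent of a permutation character has a vector fixed by a point stabilizer. -/
theorem exists_fix (X : Type*) [MulAction G X] [Finite X] [Fintype G] {χ : G → ℂ}
    (h : classInner (pc G X) χ ≠ 0) : ∃ x : X, Fix (MulAction.stabilizer G x) χ := by
  classical
  have := Fintype.ofFinite X
  by_contra hcon
  push Not at hcon
  apply h
  have h1 : ∀ x : X, ∑ z : MulAction.stabilizer G x, χ z = 0 := by
    intro x
    have h2 := hcon x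
    rw [fix_iff, ne_eq, not_not] at h2
    exact h2
  rw [classInner_def, mul_eq_zero]
  right
  have e : ∀ g : G, pc G X g * conj (χ g) = ∑ x : X, if g • x = x then conj (χ g) else 0 := by
    intro g
    rw [← Finset.sum_filter, Finset.sum_const, nsmul_eq_mul]
    congr 2
    rw [← Fintype.card_subtype, ← Nat.card_eq_fintype_card]
    rfl
  rw [Finset.sum_congr rfl fun g _ => e g, Finset.sum_comm]
  refine Finset.sum_eq_zero fun x _ => ?_
  have h2 : ∑ g : G, (if g • x = x then conj (χ g) else 0) = conj (∑ z : MulAction.stabilizer G x, χ z) := by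
    rw [map_sum, ← Finset.sum_filter]
    symm
    refine Finset.sum_bij (fun z _ => (z : G)) (fun z _ => Finset.mem_filter.2 ⟨Finset.mem_univ _, z.2⟩)
      (fun a _ b _ hab => Subtype.ext hab) (fun g hg => ⟨⟨g, (Finset.mem_filter.1 hg).2⟩, Finset.mem_univ _, rfl⟩)
      (fun z _ => rfl)
  rw [h2, h1 x, map_zero]

/-- **Odd degree and even rank.** -/
theorem imc_two_of_rank (X : Type*) [MulAction G X] [Finite X] (ht : MulAction.IsPretransitive G X)
    (hX : ¬ 2 ∣ Nat.card X) {r : ℕ} (hr : Nat.card (MulAction.orbitRel.Quotient G (X × X)) = r) (hr2 : 2 ∣ r) :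
    IMC 2 G := by
  classical
  have : Fact (Nat.Prime 2) := ⟨Nat.prime_two⟩
  have : Fintype G := Fintype.ofFinite G
  have : Finite (IrrCharacter G) := finite_irr
  have : Fintype (IrrCharacter G) := Fintype.ofFinite _
  obtain ⟨m, hm⟩ := isCharacter_iff.1 (isCharacter_pc G X)
  have h1 : Nat.card X = ∑ χ : IrrCharacter G, m χ * charDegree (χ : G → ℂ) := by
    have h2 := congrFun hm 1
    rw [pc_one, Finset.sum_apply] at h2
    have h3 : (Nat.card X : ℂ) = ((∑ χ : IrrCharacter G, m χ * charDegree (χ : G → ℂ) : ℕ) : ℂ) := by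
      rw [h2, Nat.cast_sum]
      refine Finset.sum_congr rfl fun χ _ => ?_
      rw [Pi.smul_apply, nsmul_eq_mul, Nat.cast_mul, Blocks.Basic.irr_one_eq_charDegree χ.2]
    exact_mod_cast h3
  have h2 : r = ∑ χ : IrrCharacter G, m χ * m χ := by
    have h3 := classInner_pc (G := G) X X
    rw [hr] at h3
    have h4 : classInner (pc G X) (pc G X) = ∑ χ : IrrCharacter G, (m χ : ℂ) * (m χ : ℂ) := by
      have e : pc G X = ∑ χ : IrrCharacter G, (m χ : ℂ) • (χ : G → ℂ) := by
        rw [hm]
        exact Finset.sum_congr rfl fun χ _ => (Nat.cast_smul_eq_nsmul ℂ _ _).symm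
      rw [e, classInner_sum_smul_sum_smul]
      exact Finset.sum_congr rfl fun χ _ => by rw [Complex.conj_natCast]
    rw [h4] at h3
    have h5 : ((∑ χ : IrrCharacter G, m χ * m χ : ℕ) : ℂ) = (r : ℂ) := by
      rw [← h3]
      push_cast
      rfl
    exact (by exact_mod_cast h5 : ∑ χ : IrrCharacter G, m χ * m χ = r).symm
  obtain ⟨χ, hχ0, hχd⟩ : ∃ χ : IrrCharacter G, m χ ≠ 0 ∧ 2 ∣ charDegree (χ : G → ℂ) := by
    by_contra hcon
    push Not at hcon
    apply hX
    have key : Nat.card X ≡ r [MOD 2] := by
      rw [h1, h2]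
      refine Nat.ModEq.sum fun χ _ => ?_
      by_cases h0 : m χ = 0
      · rw [h0, zero_mul, zero_mul]
      · have h3 := hcon χ h0
        have h4 : charDegree (χ : G → ℂ) ≡ 1 [MOD 2] := by unfold Nat.ModEq; omega
        have h5 : m χ * m χ ≡ m χ * 1 [MOD 2] := by
          have : m χ * m χ % 2 = m χ % 2 := by
            rcases Nat.mod_two_eq_zero_or_one (m χ) with h | h <;> simp [Nat.mul_mod, h]
          unfold Nat.ModEq
          rw [mul_one]
          exact this
        exact (Nat.ModEq.mul_left _ h4).trans h5.symm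
    unfold Nat.ModEq at key
    omega
  have h3 : classInner (pc G X) (χ : G → ℂ) ≠ 0 := by
    rw [hm, classInner_sum_nsmul_irr]
    exact_mod_cast hχ0
  obtain ⟨x, hx⟩ := exists_fix X h3
  refine IMC.of_le (MulAction.stabilizer G x) ?_ χ hχd hx
  rw [MulAction.index_stabilizer_of_transitive]
  exact hX

end Cfsg.Agent.H174.SC
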